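import Cfsg.Agent.Lib.SuzRank3.Data.Cls

/-! Generated checks. -/

set_option autoImplicit false
set_option maxRecDepth 20000
set_option Elab.async false

namespace Cfsg.Agent.Lib.SuzRank3.Data

open Cfsg.Agent.Lib.CosetTable

theorem cls_run1_1 : rangeAll cd.chk 65 0 = true := by decide +kernel

theorem cls_run1_2 : rangeAll cd.chk 65 65 = true := by decide +kernel

theorem cls_run1_3 : rangeAll cd.chk 65 130 = true := by decide +kernel

theorem cls_run1_4 : rangeAll cd.chk 65 195 = true := by decide +kernel

theorem cls_run1_5 : rangeAll cd.chk 65 260 = true := by decide +kernel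

theorem cls_run1_6 : rangeAll cd.chk 65 325 = true := by decide +kernel

theorem cls_run1_7 : rangeAll cd.chk 65 390 = true := by decide +kernel

theorem cls_run1_8 : rangeAll cd.chk 65 455 = true := by decide +kernel

theorem cls_part1 (h : Below cd.chk 0) : Below cd.chk 520 :=
  ((((((((h).step (b := 65) cls_run1_1 rfl).step (b := 130) cls_run1_2 rfl).step (b := 195) cls_run1_3 rfl).step (b := 260) cls_run1_4 rfl).step (b := 325) cls_run1_5 rfl).step (b := 390) cls_run1_6 rfl).step (b := 455) cls_run1_7 rfl).step (b := 520) cls_run1_8 rfl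

end Cfsg.Agent.Lib.SuzRank3.Data
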