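import Cfsg.Agent.Lib.SuzRank3.Data.Cls

/-! Generated checks. -/

set_option autoImplicit false
set_option maxRecDepth 20000
set_option Elab.async false

namespace Cfsg.Agent.Lib.SuzRank3.Data

open Cfsg.Agent.Lib.CosetTable

theorem cls_run2_1 : rangeAll cd.chk 65 520 = true := by decide +kernel

theorem cls_run2_2 : rangeAll cd.chk 65 585 = true := by decide +kernel

theorem cls_run2_3 : rangeAll cd.chk 65 650 = true := by decide +kernel

theorem cls_run2_4 : rangeAll cd.chk 65 715 = true := by decide +kernel

theorem cls_run2_5 : rangeAll cd.chk 65 780 = true := by decide +kernel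

theorem cls_run2_6 : rangeAll cd.chk 65 845 = true := by decide +kernel

theorem cls_run2_7 : rangeAll cd.chk 65 910 = true := by decide +kernel

theorem cls_run2_8 : rangeAll cd.chk 65 975 = true := by decide +kernel

theorem cls_part2 (h : Below cd.chk 520) : Below cd.chk 1040 :=
  ((((((((h).step (b := 585) cls_run2_1 rfl).step (b := 650) cls_run2_2 rfl).step (b := 715) cls_run2_3 rfl).step (b := 780) cls_run2_4 rfl).step (b := 845) cls_run2_5 rfl).step (b := 910) cls_run2_6 rfl).step (b := 975) cls_run2_7 rfl).step (b := 1040) cls_run2_8 rfl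

end Cfsg.Agent.Lib.SuzRank3.Data
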