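import Cfsg.Agent.Lib.SuzRank3.Data.Cls

/-! Generated checks. -/

set_option autoImplicit false
set_option maxRecDepth 20000
set_option Elab.async false

namespace Cfsg.Agent.Lib.SuzRank3.Data

open Cfsg.Agent.Lib.CosetTable

theorem cls_run3_1 : rangeAll cd.chk 65 1040 = true := by decide +kernel

theorem cls_run3_2 : rangeAll cd.chk 65 1105 = true := by decide +kernel

theorem cls_run3_3 : rangeAll cd.chk 65 1170 = true := by decide +kernel

theorem cls_run3_4 : rangeAll cd.chk 65 1235 = true := by decide +kernel

theorem cls_run3_5 : rangeAll cd.chk 65 1300 = true := by decide +kernel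

theorem cls_run3_6 : rangeAll cd.chk 65 1365 = true := by decide +kernel

theorem cls_run3_7 : rangeAll cd.chk 65 1430 = true := by decide +kernel

theorem cls_run3_8 : rangeAll cd.chk 65 1495 = true := by decide +kernel

theorem cls_part3 (h : Below cd.chk 1040) : Below cd.chk 1560 :=
  ((((((((h).step (b := 1105) cls_run3_1 rfl).step (b := 1170) cls_run3_2 rfl).step (b := 1235) cls_run3_3 rfl).step (b := 1300) cls_run3_4 rfl).step (b := 1365) cls_run3_5 rfl).step (b := 1430) cls_run3_6 rfl).step (b := 1495) cls_run3_7 rfl).step (b := 1560) cls_run3_8 rfl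

end Cfsg.Agent.Lib.SuzRank3.Data
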