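import Cfsg.Agent.Lib.SuzRank3.Data.Cls

/-! Generated checks. -/

set_option autoImplicit false
set_option maxRecDepth 20000
set_option Elab.async false

namespace Cfsg.Agent.Lib.SuzRank3.Data

open Cfsg.Agent.Lib.CosetTable

theorem cls_run4_1 : rangeAll cd.chk 65 1560 = true := by decide +kernel

theorem cls_run4_2 : rangeAll cd.chk 65 1625 = true := by decide +kernel

theorem cls_run4_3 : rangeAll cd.chk 65 1690 = true := by decide +kernel

theorem cls_run4_4 : rangeAll cd.chk 65 1755 = true := by decide +kernel

theorem cls_run4_5 : rangeAll cd.chk 65 1820 = true := by decide +kernel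

theorem cls_run4_6 : rangeAll cd.chk 65 1885 = true := by decide +kernel

theorem cls_run4_7 : rangeAll cd.chk 65 1950 = true := by decide +kernel

theorem cls_run4_8 : rangeAll cd.chk 65 2015 = true := by decide +kernel

theorem cls_part4 (h : Below cd.chk 1560) : Below cd.chk 2080 :=
  ((((((((h).step (b := 1625) cls_run4_1 rfl).step (b := 1690) cls_run4_2 rfl).step (b := 1755) cls_run4_3 rfl).step (b := 1820) cls_run4_4 rfl).step (b := 1885) cls_run4_5 rfl).step (b := 1950) cls_run4_6 rfl).step (b := 2015) cls_run4_7 rfl).step (b := 2080) cls_run4_8 rfl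

end Cfsg.Agent.Lib.SuzRank3.Data
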