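import Cfsg.Agent.Lib.SuzRank3.Data.P5
import Cfsg.Agent.Lib.SuzRank3.Data.Cls

/-! Generated tables for the rank three graph on 1782 points. -/

set_option autoImplicit false
set_option maxRecDepth 20000

namespace Cfsg.Agent.Lib.SuzRank3.Data

open Cfsg.Agent.Lib.CosetTable

set_option Elab.async false

theorem pt0_ok : PtOK cd pd 0 :=
  ⟨by decide, [1536], [], by decide +kernel, by decide +kernel, by decide +kernel, by decide +kernel, 
    fun _ h => absurd h List.not_mem_nil⟩

theorem pt2_ok : PtOK cd pd 2 :=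
  ⟨by decide, [949], [], by decide +kernel, by decide +kernel, by decide +kernel, by decide +kernel, 
    fun _ h => absurd h List.not_mem_nil⟩

theorem pt4_ok : PtOK cd pd 4 :=
  ⟨by decide, [197], [], by decide +kernel, by decide +kernel, by decide +kernel, by decide +kernel, 
    fun _ h => absurd h List.not_mem_nil⟩

theorem pt8_ok : PtOK cd pd 8 :=
  ⟨by decide, [], [], by decide +kernel, by decide +kernel, by decide +kernel, by decide +kernel, 
    fun _ h => absurd h List.not_mem_nil⟩

theorem pt10_ok : PtOK cd pd 10 :=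
  ⟨by decide, [2076], [], by decide +kernel, by decide +kernel, by decide +kernel, by decide +kernel, 
    fun _ h => absurd h List.not_mem_nil⟩

theorem pt11_ok : PtOK cd pd 11 :=
  ⟨by decide, [], [], by decide +kernel, by decide +kernel, by decide +kernel, by decide +kernel, 
    fun _ h => absurd h List.not_mem_nil⟩

theorem pt17_ok : PtOK cd pd 17 :=
  ⟨by decide, [1780], [], by decide +kernel, by decide +kernel, by decide +kernel, by decide +kernel, 
    fun _ h => absurd h List.not_mem_nil⟩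

theorem pt19_ok : PtOK cd pd 19 :=
  ⟨by decide, [18], [], by decide +kernel, by decide +kernel, by decide +kernel, by decide +kernel, 
    fun _ h => absurd h List.not_mem_nil⟩

theorem pt23_ok : PtOK cd pd 23 :=
  ⟨by decide, [], [], by decide +kernel, by decide +kernel, by decide +kernel, by decide +kernel, 
    fun _ h => absurd h List.not_mem_nil⟩

theorem pt27_ok : PtOK cd pd 27 :=
  ⟨by decide, [448], [], by decide +kernel, by decide +kernel, by decide +kernel, by decide +kernel, 
    fun _ h => absurd h List.not_mem_nil⟩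

theorem pt35_ok : PtOK cd pd 35 :=
  ⟨by decide, [2076], [], by decide +kernel, by decide +kernel, by decide +kernel, by decide +kernel, 
    fun _ h => absurd h List.not_mem_nil⟩

theorem pt43_ok : PtOK cd pd 43 :=
  ⟨by decide, [262], [], by decide +kernel, by decide +kernel, by decide +kernel, by decide +kernel, 
    fun _ h => absurd h List.not_mem_nil⟩

theorem pt48_ok : PtOK cd pd 48 :=
  ⟨by decide, [441], [], by decide +kernel, by decide +kernel, by decide +kernel, by decide +kernel, 
    fun _ h => absurd h List.not_mem_nil⟩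

theorem pt53_ok : PtOK cd pd 53 :=
  ⟨by decide, [436], [], by decide +kernel, by decide +kernel, by decide +kernel, by decide +kernel, 
    fun _ h => absurd h List.not_mem_nil⟩

theorem pt130_ok : PtOK cd pd 130 :=
  ⟨by decide, [14, 364, 601, 1063, 1458, 1946, 1947, 2024, 2060, 2076], [14, 364, 601, 1063, 1946, 1947], by decide +kernel, by decide +kernel, by decide +kernel, by decide +kernel, by
    intro s hs
    simp only [List.mem_cons, List.not_mem_nil, or_false] at hs
    rcases hs with rfl | rfl | rfl | rfl | rfl | rfl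
    · exact ⟨by decide, [0, 1, 0, 1, 2, 1, 2, 3, 2, 4, 3, 2, 2, 1, 0, 1, 0], by decide +kernel, by decide +kernel, by decide +kernel⟩
    · exact ⟨by decide, [3, 2, 3, 1, 2, 3, 0, 1, 0, 1, 2, 1, 2, 3, 2, 4, 3, 2, 2, 1, 0, 1, 0, 3, 2, 1, 3, 2, 3], by decide +kernel, by decide +kernel, by decide +kernel⟩
    · exact ⟨by decide, [4, 3, 2, 3, 1, 2, 3, 0, 1, 0, 1, 2, 1, 2, 3, 2, 4, 3, 2, 2, 1, 0, 1, 0, 3, 2, 1, 3, 2, 3, 4], by decide +kernel, by decide +kernel, by decide +kernel⟩
    · exact ⟨by decide, [3, 0, 1, 2, 3, 1, 0, 1, 2, 3, 0, 1, 2, 1, 2, 3, 2, 4, 3, 2, 2, 1, 0, 3, 2, 1, 0, 1, 3, 2, 1, 0, 3], by decide +kernel, by decide +kernel, by decide +kernel⟩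
    · exact ⟨by decide, [3, 4, 2, 3, 1, 2, 3, 0, 1, 0, 1, 2, 3, 0, 1, 2, 0, 1, 2, 1, 0, 3, 2, 1, 0, 1, 0, 3, 2, 1, 3, 2, 4, 3], by decide +kernel, by decide +kernel, by decide +kernel⟩
    · exact ⟨by decide, [3, 2, 3, 4, 3, 2, 3, 0, 1, 0, 1, 2, 3, 0, 1, 2, 0, 1, 2, 1, 0, 3, 2, 1, 0, 1, 0, 3, 2, 3, 4, 3, 2, 3], by decide +kernel, by decide +kernel, by decide +kernel⟩⟩

theorem pt160_ok : PtOK cd pd 160 :=
  ⟨by decide, [3, 12, 17, 56, 81, 197, 472, 733, 1000, 1163], [3, 12, 17, 56, 81, 197], by decide +kernel, by decide +kernel, by decide +kernel, by decide +kernel, by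
    intro s hs
    simp only [List.mem_cons, List.not_mem_nil, or_false] at hs
    rcases hs with rfl | rfl | rfl | rfl | rfl | rfl
    · exact ⟨by decide, [3, 2, 0, 1, 2, 3], by decide +kernel, by decide +kernel, by decide +kernel⟩
    · exact ⟨by decide, [4, 3, 1, 2, 0, 1, 2, 1, 3, 4], by decide +kernel, by decide +kernel, by decide +kernel⟩
    · exact ⟨by decide, [2, 3, 0, 1, 2, 0, 1, 2, 1, 0, 3, 2], by decide +kernel, by decide +kernel, by decide +kernel⟩
    · exact ⟨by decide, [4, 1, 2, 3, 0, 1, 2, 0, 1, 2, 1, 0, 3, 2, 1, 4], by decide +kernel, by decide +kernel, by decide +kernel⟩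
    · exact ⟨by decide, [0, 1, 2, 3, 1, 0, 1, 2, 0, 1, 2, 1, 0, 1, 3, 2, 1, 0], by decide +kernel, by decide +kernel, by decide +kernel⟩
    · exact ⟨by decide, [3, 4, 2, 3, 1, 2, 3, 1, 2, 0, 1, 2, 1, 3, 2, 1, 3, 2, 4, 3], by decide +kernel, by decide +kernel, by decide +kernel⟩⟩

theorem pt179_ok : PtOK cd pd 179 :=
  ⟨by decide, [5, 7, 31, 33, 136, 281, 297, 972, 1096, 1100], [5, 7, 31, 33, 136, 281], by decide +kernel, by decide +kernel, by decide +kernel, by decide +kernel, by
    intro s hs
    simp only [List.mem_cons, List.not_mem_nil, or_false] at hs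
    rcases hs with rfl | rfl | rfl | rfl | rfl | rfl
    · exact ⟨by decide, [3, 1, 2, 0, 1, 2, 1, 3], by decide +kernel, by decide +kernel, by decide +kernel⟩
    · exact ⟨by decide, [2, 3, 2, 0, 1, 2, 3, 2], by decide +kernel, by decide +kernel, by decide +kernel⟩
    · exact ⟨by decide, [1, 2, 3, 0, 1, 2, 0, 1, 2, 1, 0, 3, 2, 1], by decide +kernel, by decide +kernel, by decide +kernel⟩
    · exact ⟨by decide, [4, 2, 3, 0, 1, 2, 0, 1, 2, 1, 0, 3, 2, 4], by decide +kernel, by decide +kernel, by decide +kernel⟩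
    · exact ⟨by decide, [1, 0, 1, 2, 3, 1, 0, 1, 2, 0, 1, 2, 1, 0, 1, 3, 2, 1, 0, 1], by decide +kernel, by decide +kernel, by decide +kernel⟩
    · exact ⟨by decide, [3, 4, 2, 3, 1, 2, 3, 0, 1, 2, 0, 1, 2, 1, 0, 3, 2, 1, 3, 2, 4, 3], by decide +kernel, by decide +kernel, by decide +kernel⟩⟩

theorem pt182_ok : PtOK cd pd 182 :=
  ⟨by decide, [262], [], by decide +kernel, by decide +kernel, by decide +kernel, by decide +kernel, 
    fun _ h => absurd h List.not_mem_nil⟩

theorem pt206_ok : PtOK cd pd 206 :=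
  ⟨by decide, [733], [], by decide +kernel, by decide +kernel, by decide +kernel, by decide +kernel, 
    fun _ h => absurd h List.not_mem_nil⟩


end Cfsg.Agent.Lib.SuzRank3.Data
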