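import Cfsg.Agent.Lib.SuzRank3.Data.Reps1
import Cfsg.Agent.Lib.SuzRank3.Data.P5
import Cfsg.Agent.Lib.SuzRank3.Data.Cls

/-! Generated tables for the rank three graph on 1782 points. -/

set_option autoImplicit false
set_option maxRecDepth 20000

namespace Cfsg.Agent.Lib.SuzRank3.Data

open Cfsg.Agent.Lib.CosetTable

set_option Elab.async false

theorem rep6_run : rangeAll (rorb6.reachOK Suz1782.tab [pd.uw, pd.vw, rword6]) 416 0 = true := by
  decide +kernel

theorem rep6_ok : RepOK cd pd 6 :=
  ⟨by decide, by decide +kernel, rorb6, rfl, by decide +kernel, by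
    rw [show cd.pathW 20 6 = rword6 from eq_of_eqL (by decide +kernel)]
    exact (Below.zero _).step (b := 416) rep6_run rfl⟩

theorem rep13_run : rangeAll (rorb13.reachOK Suz1782.tab [pd.uw, pd.vw, rword13]) 416 0 = true := by
  decide +kernel

theorem rep13_ok : RepOK cd pd 13 :=
  ⟨by decide, by decide +kernel, rorb13, rfl, by decide +kernel, by
    rw [show cd.pathW 20 13 = rword13 from eq_of_eqL (by decide +kernel)]
    exact (Below.zero _).step (b := 416) rep13_run rfl⟩

theorem rep19_run : rangeAll (rorb19.reachOK Suz1782.tab [pd.uw, pd.vw, rword19]) 416 0 = true := by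
  decide +kernel

theorem rep19_ok : RepOK cd pd 19 :=
  ⟨by decide, by decide +kernel, rorb19, rfl, by decide +kernel, by
    rw [show cd.pathW 20 19 = rword19 from eq_of_eqL (by decide +kernel)]
    exact (Below.zero _).step (b := 416) rep19_run rfl⟩

theorem rep23_run : rangeAll (rorb23.reachOK Suz1782.tab [pd.uw, pd.vw, rword23]) 416 0 = true := by
  decide +kernel

theorem rep23_ok : RepOK cd pd 23 :=
  ⟨by decide, by decide +kernel, rorb23, rfl, by decide +kernel, by
    rw [show cd.pathW 20 23 = rword23 from eq_of_eqL (by decide +kernel)]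
    exact (Below.zero _).step (b := 416) rep23_run rfl⟩

theorem rep24_run : rangeAll (rorb24.reachOK Suz1782.tab [pd.uw, pd.vw, rword24]) 416 0 = true := by
  decide +kernel

theorem rep24_ok : RepOK cd pd 24 :=
  ⟨by decide, by decide +kernel, rorb24, rfl, by decide +kernel, by
    rw [show cd.pathW 20 24 = rword24 from eq_of_eqL (by decide +kernel)]
    exact (Below.zero _).step (b := 416) rep24_run rfl⟩

theorem rep26_run : rangeAll (rorb26.reachOK Suz1782.tab [pd.uw, pd.vw, rword26]) 416 0 = true := by
  decide +kernel

theorem rep26_ok : RepOK cd pd 26 :=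
  ⟨by decide, by decide +kernel, rorb26, rfl, by decide +kernel, by
    rw [show cd.pathW 20 26 = rword26 from eq_of_eqL (by decide +kernel)]
    exact (Below.zero _).step (b := 416) rep26_run rfl⟩

theorem rep29_run : rangeAll (rorb29.reachOK Suz1782.tab [pd.uw, pd.vw, rword29]) 416 0 = true := by
  decide +kernel

theorem rep29_ok : RepOK cd pd 29 :=
  ⟨by decide, by decide +kernel, rorb29, rfl, by decide +kernel, by
    rw [show cd.pathW 20 29 = rword29 from eq_of_eqL (by decide +kernel)]
    exact (Below.zero _).step (b := 416) rep29_run rfl⟩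

theorem rep35_run : rangeAll (rorb35.reachOK Suz1782.tab [pd.uw, pd.vw, rword35]) 416 0 = true := by
  decide +kernel

theorem rep35_ok : RepOK cd pd 35 :=
  ⟨by decide, by decide +kernel, rorb35, rfl, by decide +kernel, by
    rw [show cd.pathW 20 35 = rword35 from eq_of_eqL (by decide +kernel)]
    exact (Below.zero _).step (b := 416) rep35_run rfl⟩

theorem rep40_run : rangeAll (rorb40.reachOK Suz1782.tab [pd.uw, pd.vw, rword40]) 416 0 = true := by
  decide +kernel

theorem rep40_ok : RepOK cd pd 40 :=
  ⟨by decide, by decide +kernel, rorb40, rfl, by decide +kernel, by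
    rw [show cd.pathW 20 40 = rword40 from eq_of_eqL (by decide +kernel)]
    exact (Below.zero _).step (b := 416) rep40_run rfl⟩

theorem rep46_run : rangeAll (rorb46.reachOK Suz1782.tab [pd.uw, pd.vw, rword46]) 416 0 = true := by
  decide +kernel

theorem rep46_ok : RepOK cd pd 46 :=
  ⟨by decide, by decide +kernel, rorb46, rfl, by decide +kernel, by
    rw [show cd.pathW 20 46 = rword46 from eq_of_eqL (by decide +kernel)]
    exact (Below.zero _).step (b := 416) rep46_run rfl⟩

theorem rep51_run : rangeAll (rorb51.reachOK Suz1782.tab [pd.uw, pd.vw, rword51]) 416 0 = true := by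
  decide +kernel

theorem rep51_ok : RepOK cd pd 51 :=
  ⟨by decide, by decide +kernel, rorb51, rfl, by decide +kernel, by
    rw [show cd.pathW 20 51 = rword51 from eq_of_eqL (by decide +kernel)]
    exact (Below.zero _).step (b := 416) rep51_run rfl⟩

theorem rep52_run : rangeAll (rorb52.reachOK Suz1782.tab [pd.uw, pd.vw, rword52]) 416 0 = true := by
  decide +kernel

theorem rep52_ok : RepOK cd pd 52 :=
  ⟨by decide, by decide +kernel, rorb52, rfl, by decide +kernel, by
    rw [show cd.pathW 20 52 = rword52 from eq_of_eqL (by decide +kernel)]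
    exact (Below.zero _).step (b := 416) rep52_run rfl⟩

theorem rep57_run : rangeAll (rorb57.reachOK Suz1782.tab [pd.uw, pd.vw, rword57]) 416 0 = true := by
  decide +kernel

theorem rep57_ok : RepOK cd pd 57 :=
  ⟨by decide, by decide +kernel, rorb57, rfl, by decide +kernel, by
    rw [show cd.pathW 20 57 = rword57 from eq_of_eqL (by decide +kernel)]
    exact (Below.zero _).step (b := 416) rep57_run rfl⟩

theorem rep59_run : rangeAll (rorb59.reachOK Suz1782.tab [pd.uw, pd.vw, rword59]) 416 0 = true := by
  decide +kernel

theorem rep59_ok : RepOK cd pd 59 :=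
  ⟨by decide, by decide +kernel, rorb59, rfl, by decide +kernel, by
    rw [show cd.pathW 20 59 = rword59 from eq_of_eqL (by decide +kernel)]
    exact (Below.zero _).step (b := 416) rep59_run rfl⟩

theorem rep64_run : rangeAll (rorb64.reachOK Suz1782.tab [pd.uw, pd.vw, rword64]) 416 0 = true := by
  decide +kernel

theorem rep64_ok : RepOK cd pd 64 :=
  ⟨by decide, by decide +kernel, rorb64, rfl, by decide +kernel, by
    rw [show cd.pathW 20 64 = rword64 from eq_of_eqL (by decide +kernel)]
    exact (Below.zero _).step (b := 416) rep64_run rfl⟩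

theorem rep65_run : rangeAll (rorb65.reachOK Suz1782.tab [pd.uw, pd.vw, rword65]) 416 0 = true := by
  decide +kernel

theorem rep65_ok : RepOK cd pd 65 :=
  ⟨by decide, by decide +kernel, rorb65, rfl, by decide +kernel, by
    rw [show cd.pathW 20 65 = rword65 from eq_of_eqL (by decide +kernel)]
    exact (Below.zero _).step (b := 416) rep65_run rfl⟩

theorem rep67_run : rangeAll (rorb67.reachOK Suz1782.tab [pd.uw, pd.vw, rword67]) 416 0 = true := by
  decide +kernel

theorem rep67_ok : RepOK cd pd 67 :=
  ⟨by decide, by decide +kernel, rorb67, rfl, by decide +kernel, by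
    rw [show cd.pathW 20 67 = rword67 from eq_of_eqL (by decide +kernel)]
    exact (Below.zero _).step (b := 416) rep67_run rfl⟩

theorem rep70_run : rangeAll (rorb70.reachOK Suz1782.tab [pd.uw, pd.vw, rword70]) 416 0 = true := by
  decide +kernel

theorem rep70_ok : RepOK cd pd 70 :=
  ⟨by decide, by decide +kernel, rorb70, rfl, by decide +kernel, by
    rw [show cd.pathW 20 70 = rword70 from eq_of_eqL (by decide +kernel)]
    exact (Below.zero _).step (b := 416) rep70_run rfl⟩


end Cfsg.Agent.Lib.SuzRank3.Data
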