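import Cfsg.Agent.Lib.SuzRank3.Data.Reps2
import Cfsg.Agent.Lib.SuzRank3.Data.P5
import Cfsg.Agent.Lib.SuzRank3.Data.Cls

/-! Generated tables for the rank three graph on 1782 points. -/

set_option autoImplicit false
set_option maxRecDepth 20000

namespace Cfsg.Agent.Lib.SuzRank3.Data

open Cfsg.Agent.Lib.CosetTable

set_option Elab.async false

theorem rep79_run : rangeAll (rorb79.reachOK Suz1782.tab [pd.uw, pd.vw, rword79]) 416 0 = true := by
  decide +kernel

theorem rep79_ok : RepOK cd pd 79 :=
  ⟨by decide, by decide +kernel, rorb79, rfl, by decide +kernel, by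
    rw [show cd.pathW 20 79 = rword79 from eq_of_eqL (by decide +kernel)]
    exact (Below.zero _).step (b := 416) rep79_run rfl⟩

theorem rep84_run : rangeAll (rorb84.reachOK Suz1782.tab [pd.uw, pd.vw, rword84]) 416 0 = true := by
  decide +kernel

theorem rep84_ok : RepOK cd pd 84 :=
  ⟨by decide, by decide +kernel, rorb84, rfl, by decide +kernel, by
    rw [show cd.pathW 20 84 = rword84 from eq_of_eqL (by decide +kernel)]
    exact (Below.zero _).step (b := 416) rep84_run rfl⟩

theorem rep86_run : rangeAll (rorb86.reachOK Suz1782.tab [pd.uw, pd.vw, rword86]) 416 0 = true := by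
  decide +kernel

theorem rep86_ok : RepOK cd pd 86 :=
  ⟨by decide, by decide +kernel, rorb86, rfl, by decide +kernel, by
    rw [show cd.pathW 20 86 = rword86 from eq_of_eqL (by decide +kernel)]
    exact (Below.zero _).step (b := 416) rep86_run rfl⟩

theorem rep88_run : rangeAll (rorb88.reachOK Suz1782.tab [pd.uw, pd.vw, rword88]) 416 0 = true := by
  decide +kernel

theorem rep88_ok : RepOK cd pd 88 :=
  ⟨by decide, by decide +kernel, rorb88, rfl, by decide +kernel, by
    rw [show cd.pathW 20 88 = rword88 from eq_of_eqL (by decide +kernel)]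
    exact (Below.zero _).step (b := 416) rep88_run rfl⟩

theorem rep95_run : rangeAll (rorb95.reachOK Suz1782.tab [pd.uw, pd.vw, rword95]) 416 0 = true := by
  decide +kernel

theorem rep95_ok : RepOK cd pd 95 :=
  ⟨by decide, by decide +kernel, rorb95, rfl, by decide +kernel, by
    rw [show cd.pathW 20 95 = rword95 from eq_of_eqL (by decide +kernel)]
    exact (Below.zero _).step (b := 416) rep95_run rfl⟩

theorem rep100_run : rangeAll (rorb100.reachOK Suz1782.tab [pd.uw, pd.vw, rword100]) 416 0 = true := by
  decide +kernel

theorem rep100_ok : RepOK cd pd 100 :=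
  ⟨by decide, by decide +kernel, rorb100, rfl, by decide +kernel, by
    rw [show cd.pathW 20 100 = rword100 from eq_of_eqL (by decide +kernel)]
    exact (Below.zero _).step (b := 416) rep100_run rfl⟩

theorem rep106_run : rangeAll (rorb106.reachOK Suz1782.tab [pd.uw, pd.vw, rword106]) 416 0 = true := by
  decide +kernel

theorem rep106_ok : RepOK cd pd 106 :=
  ⟨by decide, by decide +kernel, rorb106, rfl, by decide +kernel, by
    rw [show cd.pathW 20 106 = rword106 from eq_of_eqL (by decide +kernel)]
    exact (Below.zero _).step (b := 416) rep106_run rfl⟩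

theorem rep110_run : rangeAll (rorb110.reachOK Suz1782.tab [pd.uw, pd.vw, rword110]) 416 0 = true := by
  decide +kernel

theorem rep110_ok : RepOK cd pd 110 :=
  ⟨by decide, by decide +kernel, rorb110, rfl, by decide +kernel, by
    rw [show cd.pathW 20 110 = rword110 from eq_of_eqL (by decide +kernel)]
    exact (Below.zero _).step (b := 416) rep110_run rfl⟩

theorem rep118_run : rangeAll (rorb118.reachOK Suz1782.tab [pd.uw, pd.vw, rword118]) 416 0 = true := by
  decide +kernel

theorem rep118_ok : RepOK cd pd 118 :=
  ⟨by decide, by decide +kernel, rorb118, rfl, by decide +kernel, by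
    rw [show cd.pathW 20 118 = rword118 from eq_of_eqL (by decide +kernel)]
    exact (Below.zero _).step (b := 416) rep118_run rfl⟩

theorem rep119_run : rangeAll (rorb119.reachOK Suz1782.tab [pd.uw, pd.vw, rword119]) 416 0 = true := by
  decide +kernel

theorem rep119_ok : RepOK cd pd 119 :=
  ⟨by decide, by decide +kernel, rorb119, rfl, by decide +kernel, by
    rw [show cd.pathW 20 119 = rword119 from eq_of_eqL (by decide +kernel)]
    exact (Below.zero _).step (b := 416) rep119_run rfl⟩

theorem rep123_run : rangeAll (rorb123.reachOK Suz1782.tab [pd.uw, pd.vw, rword123]) 416 0 = true := by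
  decide +kernel

theorem rep123_ok : RepOK cd pd 123 :=
  ⟨by decide, by decide +kernel, rorb123, rfl, by decide +kernel, by
    rw [show cd.pathW 20 123 = rword123 from eq_of_eqL (by decide +kernel)]
    exact (Below.zero _).step (b := 416) rep123_run rfl⟩

theorem rep124_run : rangeAll (rorb124.reachOK Suz1782.tab [pd.uw, pd.vw, rword124]) 416 0 = true := by
  decide +kernel

theorem rep124_ok : RepOK cd pd 124 :=
  ⟨by decide, by decide +kernel, rorb124, rfl, by decide +kernel, by
    rw [show cd.pathW 20 124 = rword124 from eq_of_eqL (by decide +kernel)]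
    exact (Below.zero _).step (b := 416) rep124_run rfl⟩

theorem rep141_run : rangeAll (rorb141.reachOK Suz1782.tab [pd.uw, pd.vw, rword141]) 416 0 = true := by
  decide +kernel

theorem rep141_ok : RepOK cd pd 141 :=
  ⟨by decide, by decide +kernel, rorb141, rfl, by decide +kernel, by
    rw [show cd.pathW 20 141 = rword141 from eq_of_eqL (by decide +kernel)]
    exact (Below.zero _).step (b := 416) rep141_run rfl⟩

theorem rep143_run : rangeAll (rorb143.reachOK Suz1782.tab [pd.uw, pd.vw, rword143]) 416 0 = true := by
  decide +kernel

theorem rep143_ok : RepOK cd pd 143 :=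
  ⟨by decide, by decide +kernel, rorb143, rfl, by decide +kernel, by
    rw [show cd.pathW 20 143 = rword143 from eq_of_eqL (by decide +kernel)]
    exact (Below.zero _).step (b := 416) rep143_run rfl⟩

theorem rep157_run : rangeAll (rorb157.reachOK Suz1782.tab [pd.uw, pd.vw, rword157]) 416 0 = true := by
  decide +kernel

theorem rep157_ok : RepOK cd pd 157 :=
  ⟨by decide, by decide +kernel, rorb157, rfl, by decide +kernel, by
    rw [show cd.pathW 20 157 = rword157 from eq_of_eqL (by decide +kernel)]
    exact (Below.zero _).step (b := 416) rep157_run rfl⟩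

theorem rep162_run : rangeAll (rorb162.reachOK Suz1782.tab [pd.uw, pd.vw, rword162]) 416 0 = true := by
  decide +kernel

theorem rep162_ok : RepOK cd pd 162 :=
  ⟨by decide, by decide +kernel, rorb162, rfl, by decide +kernel, by
    rw [show cd.pathW 20 162 = rword162 from eq_of_eqL (by decide +kernel)]
    exact (Below.zero _).step (b := 416) rep162_run rfl⟩

theorem rep176_run : rangeAll (rorb176.reachOK Suz1782.tab [pd.uw, pd.vw, rword176]) 416 0 = true := by
  decide +kernel

theorem rep176_ok : RepOK cd pd 176 :=
  ⟨by decide, by decide +kernel, rorb176, rfl, by decide +kernel, by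
    rw [show cd.pathW 20 176 = rword176 from eq_of_eqL (by decide +kernel)]
    exact (Below.zero _).step (b := 416) rep176_run rfl⟩

theorem rep189_run : rangeAll (rorb189.reachOK Suz1782.tab [pd.uw, pd.vw, rword189]) 416 0 = true := by
  decide +kernel

theorem rep189_ok : RepOK cd pd 189 :=
  ⟨by decide, by decide +kernel, rorb189, rfl, by decide +kernel, by
    rw [show cd.pathW 20 189 = rword189 from eq_of_eqL (by decide +kernel)]
    exact (Below.zero _).step (b := 416) rep189_run rfl⟩


end Cfsg.Agent.Lib.SuzRank3.Data
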