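import Cfsg.Agent.Lib.SuzRank3.Data.Reps3
import Cfsg.Agent.Lib.SuzRank3.Data.P5
import Cfsg.Agent.Lib.SuzRank3.Data.Cls

/-! Generated tables for the rank three graph on 1782 points. -/

set_option autoImplicit false
set_option maxRecDepth 20000

namespace Cfsg.Agent.Lib.SuzRank3.Data

open Cfsg.Agent.Lib.CosetTable

set_option Elab.async false

theorem rep201_run : rangeAll (rorb201.reachOK Suz1782.tab [pd.uw, pd.vw, rword201]) 416 0 = true := by
  decide +kernel

theorem rep201_ok : RepOK cd pd 201 :=
  ⟨by decide, by decide +kernel, rorb201, rfl, by decide +kernel, by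
    rw [show cd.pathW 20 201 = rword201 from eq_of_eqL (by decide +kernel)]
    exact (Below.zero _).step (b := 416) rep201_run rfl⟩

theorem rep202_run : rangeAll (rorb202.reachOK Suz1782.tab [pd.uw, pd.vw, rword202]) 416 0 = true := by
  decide +kernel

theorem rep202_ok : RepOK cd pd 202 :=
  ⟨by decide, by decide +kernel, rorb202, rfl, by decide +kernel, by
    rw [show cd.pathW 20 202 = rword202 from eq_of_eqL (by decide +kernel)]
    exact (Below.zero _).step (b := 416) rep202_run rfl⟩

theorem rep204_run : rangeAll (rorb204.reachOK Suz1782.tab [pd.uw, pd.vw, rword204]) 416 0 = true := by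
  decide +kernel

theorem rep204_ok : RepOK cd pd 204 :=
  ⟨by decide, by decide +kernel, rorb204, rfl, by decide +kernel, by
    rw [show cd.pathW 20 204 = rword204 from eq_of_eqL (by decide +kernel)]
    exact (Below.zero _).step (b := 416) rep204_run rfl⟩

theorem rep205_run : rangeAll (rorb205.reachOK Suz1782.tab [pd.uw, pd.vw, rword205]) 416 0 = true := by
  decide +kernel

theorem rep205_ok : RepOK cd pd 205 :=
  ⟨by decide, by decide +kernel, rorb205, rfl, by decide +kernel, by
    rw [show cd.pathW 20 205 = rword205 from eq_of_eqL (by decide +kernel)]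
    exact (Below.zero _).step (b := 416) rep205_run rfl⟩

theorem rep209_run : rangeAll (rorb209.reachOK Suz1782.tab [pd.uw, pd.vw, rword209]) 416 0 = true := by
  decide +kernel

theorem rep209_ok : RepOK cd pd 209 :=
  ⟨by decide, by decide +kernel, rorb209, rfl, by decide +kernel, by
    rw [show cd.pathW 20 209 = rword209 from eq_of_eqL (by decide +kernel)]
    exact (Below.zero _).step (b := 416) rep209_run rfl⟩

theorem rep238_run : rangeAll (rorb238.reachOK Suz1782.tab [pd.uw, pd.vw, rword238]) 416 0 = true := by
  decide +kernel

theorem rep238_ok : RepOK cd pd 238 :=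
  ⟨by decide, by decide +kernel, rorb238, rfl, by decide +kernel, by
    rw [show cd.pathW 20 238 = rword238 from eq_of_eqL (by decide +kernel)]
    exact (Below.zero _).step (b := 416) rep238_run rfl⟩

theorem rep239_run : rangeAll (rorb239.reachOK Suz1782.tab [pd.uw, pd.vw, rword239]) 416 0 = true := by
  decide +kernel

theorem rep239_ok : RepOK cd pd 239 :=
  ⟨by decide, by decide +kernel, rorb239, rfl, by decide +kernel, by
    rw [show cd.pathW 20 239 = rword239 from eq_of_eqL (by decide +kernel)]
    exact (Below.zero _).step (b := 416) rep239_run rfl⟩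

theorem rep248_run : rangeAll (rorb248.reachOK Suz1782.tab [pd.uw, pd.vw, rword248]) 416 0 = true := by
  decide +kernel

theorem rep248_ok : RepOK cd pd 248 :=
  ⟨by decide, by decide +kernel, rorb248, rfl, by decide +kernel, by
    rw [show cd.pathW 20 248 = rword248 from eq_of_eqL (by decide +kernel)]
    exact (Below.zero _).step (b := 416) rep248_run rfl⟩

theorem rep261_run : rangeAll (rorb261.reachOK Suz1782.tab [pd.uw, pd.vw, rword261]) 416 0 = true := by
  decide +kernel

theorem rep261_ok : RepOK cd pd 261 :=
  ⟨by decide, by decide +kernel, rorb261, rfl, by decide +kernel, by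
    rw [show cd.pathW 20 261 = rword261 from eq_of_eqL (by decide +kernel)]
    exact (Below.zero _).step (b := 416) rep261_run rfl⟩

theorem rep274_run : rangeAll (rorb274.reachOK Suz1782.tab [pd.uw, pd.vw, rword274]) 416 0 = true := by
  decide +kernel

theorem rep274_ok : RepOK cd pd 274 :=
  ⟨by decide, by decide +kernel, rorb274, rfl, by decide +kernel, by
    rw [show cd.pathW 20 274 = rword274 from eq_of_eqL (by decide +kernel)]
    exact (Below.zero _).step (b := 416) rep274_run rfl⟩

theorem rep276_run : rangeAll (rorb276.reachOK Suz1782.tab [pd.uw, pd.vw, rword276]) 416 0 = true := by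
  decide +kernel

theorem rep276_ok : RepOK cd pd 276 :=
  ⟨by decide, by decide +kernel, rorb276, rfl, by decide +kernel, by
    rw [show cd.pathW 20 276 = rword276 from eq_of_eqL (by decide +kernel)]
    exact (Below.zero _).step (b := 416) rep276_run rfl⟩

theorem rep277_run : rangeAll (rorb277.reachOK Suz1782.tab [pd.uw, pd.vw, rword277]) 416 0 = true := by
  decide +kernel

theorem rep277_ok : RepOK cd pd 277 :=
  ⟨by decide, by decide +kernel, rorb277, rfl, by decide +kernel, by
    rw [show cd.pathW 20 277 = rword277 from eq_of_eqL (by decide +kernel)]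
    exact (Below.zero _).step (b := 416) rep277_run rfl⟩

theorem rep290_run : rangeAll (rorb290.reachOK Suz1782.tab [pd.uw, pd.vw, rword290]) 416 0 = true := by
  decide +kernel

theorem rep290_ok : RepOK cd pd 290 :=
  ⟨by decide, by decide +kernel, rorb290, rfl, by decide +kernel, by
    rw [show cd.pathW 20 290 = rword290 from eq_of_eqL (by decide +kernel)]
    exact (Below.zero _).step (b := 416) rep290_run rfl⟩

theorem rep306_run : rangeAll (rorb306.reachOK Suz1782.tab [pd.uw, pd.vw, rword306]) 416 0 = true := by
  decide +kernel

theorem rep306_ok : RepOK cd pd 306 :=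
  ⟨by decide, by decide +kernel, rorb306, rfl, by decide +kernel, by
    rw [show cd.pathW 20 306 = rword306 from eq_of_eqL (by decide +kernel)]
    exact (Below.zero _).step (b := 416) rep306_run rfl⟩

theorem rep335_run : rangeAll (rorb335.reachOK Suz1782.tab [pd.uw, pd.vw, rword335]) 416 0 = true := by
  decide +kernel

theorem rep335_ok : RepOK cd pd 335 :=
  ⟨by decide, by decide +kernel, rorb335, rfl, by decide +kernel, by
    rw [show cd.pathW 20 335 = rword335 from eq_of_eqL (by decide +kernel)]
    exact (Below.zero _).step (b := 416) rep335_run rfl⟩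

theorem rep339_run : rangeAll (rorb339.reachOK Suz1782.tab [pd.uw, pd.vw, rword339]) 416 0 = true := by
  decide +kernel

theorem rep339_ok : RepOK cd pd 339 :=
  ⟨by decide, by decide +kernel, rorb339, rfl, by decide +kernel, by
    rw [show cd.pathW 20 339 = rword339 from eq_of_eqL (by decide +kernel)]
    exact (Below.zero _).step (b := 416) rep339_run rfl⟩

theorem rep340_run : rangeAll (rorb340.reachOK Suz1782.tab [pd.uw, pd.vw, rword340]) 416 0 = true := by
  decide +kernel

theorem rep340_ok : RepOK cd pd 340 :=
  ⟨by decide, by decide +kernel, rorb340, rfl, by decide +kernel, by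
    rw [show cd.pathW 20 340 = rword340 from eq_of_eqL (by decide +kernel)]
    exact (Below.zero _).step (b := 416) rep340_run rfl⟩

theorem rep344_run : rangeAll (rorb344.reachOK Suz1782.tab [pd.uw, pd.vw, rword344]) 416 0 = true := by
  decide +kernel

theorem rep344_ok : RepOK cd pd 344 :=
  ⟨by decide, by decide +kernel, rorb344, rfl, by decide +kernel, by
    rw [show cd.pathW 20 344 = rword344 from eq_of_eqL (by decide +kernel)]
    exact (Below.zero _).step (b := 416) rep344_run rfl⟩


end Cfsg.Agent.Lib.SuzRank3.Data
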