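import Cfsg.Agent.Lib.SuzRank3.Data.Reps4
import Cfsg.Agent.Lib.SuzRank3.Data.P5
import Cfsg.Agent.Lib.SuzRank3.Data.Cls

/-! Generated tables for the rank three graph on 1782 points. -/

set_option autoImplicit false
set_option maxRecDepth 20000

namespace Cfsg.Agent.Lib.SuzRank3.Data

open Cfsg.Agent.Lib.CosetTable

set_option Elab.async false

theorem rep373_run : rangeAll (rorb373.reachOK Suz1782.tab [pd.uw, pd.vw, rword373]) 416 0 = true := by
  decide +kernel

theorem rep373_ok : RepOK cd pd 373 :=
  ⟨by decide, by decide +kernel, rorb373, rfl, by decide +kernel, by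
    rw [show cd.pathW 20 373 = rword373 from eq_of_eqL (by decide +kernel)]
    exact (Below.zero _).step (b := 416) rep373_run rfl⟩

theorem rep415_run : rangeAll (rorb415.reachOK Suz1782.tab [pd.uw, pd.vw, rword415]) 416 0 = true := by
  decide +kernel

theorem rep415_ok : RepOK cd pd 415 :=
  ⟨by decide, by decide +kernel, rorb415, rfl, by decide +kernel, by
    rw [show cd.pathW 20 415 = rword415 from eq_of_eqL (by decide +kernel)]
    exact (Below.zero _).step (b := 416) rep415_run rfl⟩

theorem rep427_run : rangeAll (rorb427.reachOK Suz1782.tab [pd.uw, pd.vw, rword427]) 416 0 = true := by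
  decide +kernel

theorem rep427_ok : RepOK cd pd 427 :=
  ⟨by decide, by decide +kernel, rorb427, rfl, by decide +kernel, by
    rw [show cd.pathW 20 427 = rword427 from eq_of_eqL (by decide +kernel)]
    exact (Below.zero _).step (b := 416) rep427_run rfl⟩

theorem rep428_run : rangeAll (rorb428.reachOK Suz1782.tab [pd.uw, pd.vw, rword428]) 416 0 = true := by
  decide +kernel

theorem rep428_ok : RepOK cd pd 428 :=
  ⟨by decide, by decide +kernel, rorb428, rfl, by decide +kernel, by
    rw [show cd.pathW 20 428 = rword428 from eq_of_eqL (by decide +kernel)]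
    exact (Below.zero _).step (b := 416) rep428_run rfl⟩

theorem rep450_run : rangeAll (rorb450.reachOK Suz1782.tab [pd.uw, pd.vw, rword450]) 416 0 = true := by
  decide +kernel

theorem rep450_ok : RepOK cd pd 450 :=
  ⟨by decide, by decide +kernel, rorb450, rfl, by decide +kernel, by
    rw [show cd.pathW 20 450 = rword450 from eq_of_eqL (by decide +kernel)]
    exact (Below.zero _).step (b := 416) rep450_run rfl⟩

theorem rep452_run : rangeAll (rorb452.reachOK Suz1782.tab [pd.uw, pd.vw, rword452]) 416 0 = true := by
  decide +kernel

theorem rep452_ok : RepOK cd pd 452 :=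
  ⟨by decide, by decide +kernel, rorb452, rfl, by decide +kernel, by
    rw [show cd.pathW 20 452 = rword452 from eq_of_eqL (by decide +kernel)]
    exact (Below.zero _).step (b := 416) rep452_run rfl⟩

theorem rep471_run : rangeAll (rorb471.reachOK Suz1782.tab [pd.uw, pd.vw, rword471]) 416 0 = true := by
  decide +kernel

theorem rep471_ok : RepOK cd pd 471 :=
  ⟨by decide, by decide +kernel, rorb471, rfl, by decide +kernel, by
    rw [show cd.pathW 20 471 = rword471 from eq_of_eqL (by decide +kernel)]
    exact (Below.zero _).step (b := 416) rep471_run rfl⟩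

theorem rep500_run : rangeAll (rorb500.reachOK Suz1782.tab [pd.uw, pd.vw, rword500]) 416 0 = true := by
  decide +kernel

theorem rep500_ok : RepOK cd pd 500 :=
  ⟨by decide, by decide +kernel, rorb500, rfl, by decide +kernel, by
    rw [show cd.pathW 20 500 = rword500 from eq_of_eqL (by decide +kernel)]
    exact (Below.zero _).step (b := 416) rep500_run rfl⟩

theorem rep512_run : rangeAll (rorb512.reachOK Suz1782.tab [pd.uw, pd.vw, rword512]) 416 0 = true := by
  decide +kernel

theorem rep512_ok : RepOK cd pd 512 :=
  ⟨by decide, by decide +kernel, rorb512, rfl, by decide +kernel, by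
    rw [show cd.pathW 20 512 = rword512 from eq_of_eqL (by decide +kernel)]
    exact (Below.zero _).step (b := 416) rep512_run rfl⟩

theorem rep614_run : rangeAll (rorb614.reachOK Suz1782.tab [pd.uw, pd.vw, rword614]) 416 0 = true := by
  decide +kernel

theorem rep614_ok : RepOK cd pd 614 :=
  ⟨by decide, by decide +kernel, rorb614, rfl, by decide +kernel, by
    rw [show cd.pathW 20 614 = rword614 from eq_of_eqL (by decide +kernel)]
    exact (Below.zero _).step (b := 416) rep614_run rfl⟩

theorem rep638_run : rangeAll (rorb638.reachOK Suz1782.tab [pd.uw, pd.vw, rword638]) 416 0 = true := by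
  decide +kernel

theorem rep638_ok : RepOK cd pd 638 :=
  ⟨by decide, by decide +kernel, rorb638, rfl, by decide +kernel, by
    rw [show cd.pathW 20 638 = rword638 from eq_of_eqL (by decide +kernel)]
    exact (Below.zero _).step (b := 416) rep638_run rfl⟩

theorem rep679_run : rangeAll (rorb679.reachOK Suz1782.tab [pd.uw, pd.vw, rword679]) 416 0 = true := by
  decide +kernel

theorem rep679_ok : RepOK cd pd 679 :=
  ⟨by decide, by decide +kernel, rorb679, rfl, by decide +kernel, by
    rw [show cd.pathW 20 679 = rword679 from eq_of_eqL (by decide +kernel)]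
    exact (Below.zero _).step (b := 416) rep679_run rfl⟩

theorem rep714_run : rangeAll (rorb714.reachOK Suz1782.tab [pd.uw, pd.vw, rword714]) 416 0 = true := by
  decide +kernel

theorem rep714_ok : RepOK cd pd 714 :=
  ⟨by decide, by decide +kernel, rorb714, rfl, by decide +kernel, by
    rw [show cd.pathW 20 714 = rword714 from eq_of_eqL (by decide +kernel)]
    exact (Below.zero _).step (b := 416) rep714_run rfl⟩

theorem rep721_run : rangeAll (rorb721.reachOK Suz1782.tab [pd.uw, pd.vw, rword721]) 416 0 = true := by
  decide +kernel

theorem rep721_ok : RepOK cd pd 721 :=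
  ⟨by decide, by decide +kernel, rorb721, rfl, by decide +kernel, by
    rw [show cd.pathW 20 721 = rword721 from eq_of_eqL (by decide +kernel)]
    exact (Below.zero _).step (b := 416) rep721_run rfl⟩

theorem rep1007_run : rangeAll (rorb1007.reachOK Suz1782.tab [pd.uw, pd.vw, rword1007]) 416 0 = true := by
  decide +kernel

theorem rep1007_ok : RepOK cd pd 1007 :=
  ⟨by decide, by decide +kernel, rorb1007, rfl, by decide +kernel, by
    rw [show cd.pathW 20 1007 = rword1007 from eq_of_eqL (by decide +kernel)]
    exact (Below.zero _).step (b := 416) rep1007_run rfl⟩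

theorem rep1109_run : rangeAll (rorb1109.reachOK Suz1782.tab [pd.uw, pd.vw, rword1109]) 416 0 = true := by
  decide +kernel

theorem rep1109_ok : RepOK cd pd 1109 :=
  ⟨by decide, by decide +kernel, rorb1109, rfl, by decide +kernel, by
    rw [show cd.pathW 20 1109 = rword1109 from eq_of_eqL (by decide +kernel)]
    exact (Below.zero _).step (b := 416) rep1109_run rfl⟩

theorem rep1113_run : rangeAll (rorb1113.reachOK Suz1782.tab [pd.uw, pd.vw, rword1113]) 416 0 = true := by
  decide +kernel

theorem rep1113_ok : RepOK cd pd 1113 :=
  ⟨by decide, by decide +kernel, rorb1113, rfl, by decide +kernel, by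
    rw [show cd.pathW 20 1113 = rword1113 from eq_of_eqL (by decide +kernel)]
    exact (Below.zero _).step (b := 416) rep1113_run rfl⟩

theorem rep1442_run : rangeAll (rorb1442.reachOK Suz1782.tab [pd.uw, pd.vw, rword1442]) 416 0 = true := by
  decide +kernel

theorem rep1442_ok : RepOK cd pd 1442 :=
  ⟨by decide, by decide +kernel, rorb1442, rfl, by decide +kernel, by
    rw [show cd.pathW 20 1442 = rword1442 from eq_of_eqL (by decide +kernel)]
    exact (Below.zero _).step (b := 416) rep1442_run rfl⟩


end Cfsg.Agent.Lib.SuzRank3.Data
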