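import Cfsg.Agent.Lib.SuzRank3.Data.Rows

/-! Generated tables for the rank three graph on 1782 points. -/

set_option autoImplicit false
set_option maxRecDepth 20000

namespace Cfsg.Agent.Lib.SuzRank3.Data

open Cfsg.Agent.Lib.CosetTable

set_option Elab.async false

theorem row905_run : rangeAll (rowChk row905 [0, 1, 6, 0, 1, 2, 3, 4, 2, 3, 2, 0, 1, 6]) 1782 0 = true := by decide +kernel

theorem row905_ok : RowOK (905, row905) :=
  rowOK_of (v := [0, 1, 6, 0, 1, 2, 3, 4, 2, 3, 2, 0, 1, 6]) (by decide +kernel) (by decide) (by decide +kernel)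
    ((Below.zero _).step (b := 1782) row905_run rfl)

theorem row1760_run : rangeAll (rowChk row1760 [2, 1, 0, 1, 6, 5, 4, 3, 2, 3, 4, 1, 2, 3, 2, 1, 6]) 1782 0 = true := by decide +kernel

theorem row1760_ok : RowOK (1760, row1760) :=
  rowOK_of (v := [2, 1, 0, 1, 6, 5, 4, 3, 2, 3, 4, 1, 2, 3, 2, 1, 6]) (by decide +kernel) (by decide) (by decide +kernel)
    ((Below.zero _).step (b := 1782) row1760_run rfl)

theorem row1756_run : rangeAll (rowChk row1756 [2, 1, 6, 5, 4, 2, 3, 1, 2, 3, 4, 1, 2, 3, 2, 1, 6]) 1782 0 = true := by decide +kernel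

theorem row1756_ok : RowOK (1756, row1756) :=
  rowOK_of (v := [2, 1, 6, 5, 4, 2, 3, 1, 2, 3, 4, 1, 2, 3, 2, 1, 6]) (by decide +kernel) (by decide) (by decide +kernel)
    ((Below.zero _).step (b := 1782) row1756_run rfl)

theorem row611_run : rangeAll (rowChk row611 [2, 1, 5, 6, 3, 4, 1, 2, 3, 2, 0, 1, 6]) 1782 0 = true := by decide +kernel

theorem row611_ok : RowOK (611, row611) :=
  rowOK_of (v := [2, 1, 5, 6, 3, 4, 1, 2, 3, 2, 0, 1, 6]) (by decide +kernel) (by decide) (by decide +kernel)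
    ((Below.zero _).step (b := 1782) row611_run rfl)

theorem row1002_run : rangeAll (rowChk row1002 [1, 0, 1, 6, 0, 1, 2, 3, 4, 2, 3, 2, 1, 6]) 1782 0 = true := by decide +kernel

theorem row1002_ok : RowOK (1002, row1002) :=
  rowOK_of (v := [1, 0, 1, 6, 0, 1, 2, 3, 4, 2, 3, 2, 1, 6]) (by decide +kernel) (by decide) (by decide +kernel)
    ((Below.zero _).step (b := 1782) row1002_run rfl)

theorem row703_run : rangeAll (rowChk row703 [5, 1, 6, 5, 1, 2, 3, 4, 2, 3, 2, 1, 6]) 1782 0 = true := by decide +kernel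

theorem row703_ok : RowOK (703, row703) :=
  rowOK_of (v := [5, 1, 6, 5, 1, 2, 3, 4, 2, 3, 2, 1, 6]) (by decide +kernel) (by decide) (by decide +kernel)
    ((Below.zero _).step (b := 1782) row703_run rfl)

theorem row1699_run : rangeAll (rowChk row1699 [2, 1, 6, 5, 3, 2, 3, 4, 3, 1, 2, 3, 1, 2, 0, 1, 6]) 1782 0 = true := by decide +kernel

theorem row1699_ok : RowOK (1699, row1699) :=
  rowOK_of (v := [2, 1, 6, 5, 3, 2, 3, 4, 3, 1, 2, 3, 1, 2, 0, 1, 6]) (by decide +kernel) (by decide) (by decide +kernel)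
    ((Below.zero _).step (b := 1782) row1699_run rfl)

theorem row1627_run : rangeAll (rowChk row1627 [2, 1, 0, 1, 6, 5, 3, 2, 3, 4, 1, 2, 3, 2, 1, 6]) 1782 0 = true := by decide +kernel

theorem row1627_ok : RowOK (1627, row1627) :=
  rowOK_of (v := [2, 1, 0, 1, 6, 5, 3, 2, 3, 4, 1, 2, 3, 2, 1, 6]) (by decide +kernel) (by decide) (by decide +kernel)
    ((Below.zero _).step (b := 1782) row1627_run rfl)

theorem row900_run : rangeAll (rowChk row900 [6, 2, 1, 5, 6, 3, 4, 1, 2, 3, 2, 0, 1, 6]) 1782 0 = true := by decide +kernel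

theorem row900_ok : RowOK (900, row900) :=
  rowOK_of (v := [6, 2, 1, 5, 6, 3, 4, 1, 2, 3, 2, 0, 1, 6]) (by decide +kernel) (by decide) (by decide +kernel)
    ((Below.zero _).step (b := 1782) row900_run rfl)


end Cfsg.Agent.Lib.SuzRank3.Data
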