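import Cfsg.Agent.Lib.SuzRank3.Data.Rows

/-! Generated tables for the rank three graph on 1782 points. -/

set_option autoImplicit false
set_option maxRecDepth 20000

namespace Cfsg.Agent.Lib.SuzRank3.Data

open Cfsg.Agent.Lib.CosetTable

set_option Elab.async false

theorem row688_run : rangeAll (rowChk row688 [1, 2, 3, 2, 1, 5, 6, 1, 2, 3, 2, 1, 6]) 1782 0 = true := by decide +kernel

theorem row688_ok : RowOK (688, row688) :=
  rowOK_of (v := [1, 2, 3, 2, 1, 5, 6, 1, 2, 3, 2, 1, 6]) (by decide +kernel) (by decide) (by decide +kernel)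
    ((Below.zero _).step (b := 1782) row688_run rfl)

theorem row696_run : rangeAll (rowChk row696 [0, 1, 6, 0, 1, 2, 3, 4, 2, 3, 2, 1, 6]) 1782 0 = true := by decide +kernel

theorem row696_ok : RowOK (696, row696) :=
  rowOK_of (v := [0, 1, 6, 0, 1, 2, 3, 4, 2, 3, 2, 1, 6]) (by decide +kernel) (by decide) (by decide +kernel)
    ((Below.zero _).step (b := 1782) row696_run rfl)

theorem row907_run : rangeAll (rowChk row907 [0, 1, 6, 5, 1, 2, 3, 4, 2, 3, 2, 0, 1, 6]) 1782 0 = true := by decide +kernel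

theorem row907_ok : RowOK (907, row907) :=
  rowOK_of (v := [0, 1, 6, 5, 1, 2, 3, 4, 2, 3, 2, 0, 1, 6]) (by decide +kernel) (by decide) (by decide +kernel)
    ((Below.zero _).step (b := 1782) row907_run rfl)

theorem row695_run : rangeAll (rowChk row695 [6, 1, 5, 0, 1, 2, 3, 4, 2, 3, 2, 1, 6]) 1782 0 = true := by decide +kernel

theorem row695_ok : RowOK (695, row695) :=
  rowOK_of (v := [6, 1, 5, 0, 1, 2, 3, 4, 2, 3, 2, 1, 6]) (by decide +kernel) (by decide) (by decide +kernel)
    ((Below.zero _).step (b := 1782) row695_run rfl)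

theorem row689_run : rangeAll (rowChk row689 [6, 2, 3, 2, 1, 5, 6, 1, 2, 3, 2, 1, 6]) 1782 0 = true := by decide +kernel

theorem row689_ok : RowOK (689, row689) :=
  rowOK_of (v := [6, 2, 3, 2, 1, 5, 6, 1, 2, 3, 2, 1, 6]) (by decide +kernel) (by decide) (by decide +kernel)
    ((Below.zero _).step (b := 1782) row689_run rfl)

theorem row321_run : rangeAll (rowChk row321 [6, 0, 1, 2, 3, 4, 2, 3, 2, 1, 6]) 1782 0 = true := by decide +kernel

theorem row321_ok : RowOK (321, row321) :=
  rowOK_of (v := [6, 0, 1, 2, 3, 4, 2, 3, 2, 1, 6]) (by decide +kernel) (by decide) (by decide +kernel)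
    ((Below.zero _).step (b := 1782) row321_run rfl)

theorem row478_run : rangeAll (rowChk row478 [1, 6, 0, 1, 2, 3, 4, 2, 3, 2, 1, 6]) 1782 0 = true := by decide +kernel

theorem row478_ok : RowOK (478, row478) :=
  rowOK_of (v := [1, 6, 0, 1, 2, 3, 4, 2, 3, 2, 1, 6]) (by decide +kernel) (by decide) (by decide +kernel)
    ((Below.zero _).step (b := 1782) row478_run rfl)

theorem row324_run : rangeAll (rowChk row324 [5, 6, 1, 2, 3, 4, 2, 3, 2, 1, 6]) 1782 0 = true := by decide +kernel

theorem row324_ok : RowOK (324, row324) :=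
  rowOK_of (v := [5, 6, 1, 2, 3, 4, 2, 3, 2, 1, 6]) (by decide +kernel) (by decide) (by decide +kernel)
    ((Below.zero _).step (b := 1782) row324_run rfl)

theorem row465_run : rangeAll (rowChk row465 [2, 1, 5, 6, 3, 4, 1, 2, 3, 2, 1, 6]) 1782 0 = true := by decide +kernel

theorem row465_ok : RowOK (465, row465) :=
  rowOK_of (v := [2, 1, 5, 6, 3, 4, 1, 2, 3, 2, 1, 6]) (by decide +kernel) (by decide) (by decide +kernel)
    ((Below.zero _).step (b := 1782) row465_run rfl)


end Cfsg.Agent.Lib.SuzRank3.Data
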