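import Cfsg.Agent.Lib.SuzRank3.Data.Rows

/-! Generated tables for the rank three graph on 1782 points. -/

set_option autoImplicit false
set_option maxRecDepth 20000

namespace Cfsg.Agent.Lib.SuzRank3.Data

open Cfsg.Agent.Lib.CosetTable

set_option Elab.async false

theorem row421_run : rangeAll (rowChk row421 [5, 6, 1, 2, 3, 4, 2, 3, 2, 0, 1, 6]) 1782 0 = true := by decide +kernel

theorem row421_ok : RowOK (421, row421) :=
  rowOK_of (v := [5, 6, 1, 2, 3, 4, 2, 3, 2, 0, 1, 6]) (by decide +kernel) (by decide) (by decide +kernel)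
    ((Below.zero _).step (b := 1782) row421_run rfl)

theorem row205_run : rangeAll (rowChk row205 [6, 1, 2, 3, 4, 2, 3, 2, 1, 6]) 1782 0 = true := by decide +kernel

theorem row205_ok : RowOK (205, row205) :=
  rowOK_of (v := [6, 1, 2, 3, 4, 2, 3, 2, 1, 6]) (by decide +kernel) (by decide) (by decide +kernel)
    ((Below.zero _).step (b := 1782) row205_run rfl)

theorem row0_run : rangeAll (rowChk row0 []) 1782 0 = true := by decide +kernel

theorem row0_ok : RowOK (0, row0) :=
  rowOK_of (v := []) (by decide +kernel) (by decide) (by decide +kernel)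
    ((Below.zero _).step (b := 1782) row0_run rfl)

theorem row4_run : rangeAll (rowChk row4 [2, 1, 6]) 1782 0 = true := by decide +kernel

theorem row4_ok : RowOK (4, row4) :=
  rowOK_of (v := [2, 1, 6]) (by decide +kernel) (by decide) (by decide +kernel)
    ((Below.zero _).step (b := 1782) row4_run rfl)

theorem row48_run : rangeAll (rowChk row48 [3, 4, 2, 3, 2, 1, 6]) 1782 0 = true := by decide +kernel

theorem row48_ok : RowOK (48, row48) :=
  rowOK_of (v := [3, 4, 2, 3, 2, 1, 6]) (by decide +kernel) (by decide) (by decide +kernel)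
    ((Below.zero _).step (b := 1782) row48_run rfl)

theorem row20_run : rangeAll (rowChk row20 [3, 1, 2, 0, 1, 6]) 1782 0 = true := by decide +kernel

theorem row20_ok : RowOK (20, row20) :=
  rowOK_of (v := [3, 1, 2, 0, 1, 6]) (by decide +kernel) (by decide) (by decide +kernel)
    ((Below.zero _).step (b := 1782) row20_run rfl)

theorem row40_run : rangeAll (rowChk row40 [6, 3, 1, 2, 0, 1, 6]) 1782 0 = true := by decide +kernel

theorem row40_ok : RowOK (40, row40) :=
  rowOK_of (v := [6, 3, 1, 2, 0, 1, 6]) (by decide +kernel) (by decide) (by decide +kernel)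
    ((Below.zero _).step (b := 1782) row40_run rfl)

theorem row21_run : rangeAll (rowChk row21 [5, 1, 2, 0, 1, 6]) 1782 0 = true := by decide +kernel

theorem row21_ok : RowOK (21, row21) :=
  rowOK_of (v := [5, 1, 2, 0, 1, 6]) (by decide +kernel) (by decide) (by decide +kernel)
    ((Below.zero _).step (b := 1782) row21_run rfl)

theorem row90_run : rangeAll (rowChk row90 [5, 4, 3, 1, 2, 1, 0, 1, 6]) 1782 0 = true := by decide +kernel

theorem row90_ok : RowOK (90, row90) :=
  rowOK_of (v := [5, 4, 3, 1, 2, 1, 0, 1, 6]) (by decide +kernel) (by decide) (by decide +kernel)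
    ((Below.zero _).step (b := 1782) row90_run rfl)


end Cfsg.Agent.Lib.SuzRank3.Data
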