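import Cfsg.Agent.Lib.SuzRank3.Data.Rows

/-! Generated tables for the rank three graph on 1782 points. -/

set_option autoImplicit false
set_option maxRecDepth 20000

namespace Cfsg.Agent.Lib.SuzRank3.Data

open Cfsg.Agent.Lib.CosetTable

set_option Elab.async false

theorem row12_run : rangeAll (rowChk row12 [3, 2, 0, 1, 6]) 1782 0 = true := by decide +kernel

theorem row12_ok : RowOK (12, row12) :=
  rowOK_of (v := [3, 2, 0, 1, 6]) (by decide +kernel) (by decide) (by decide +kernel)
    ((Below.zero _).step (b := 1782) row12_run rfl)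

theorem row47_run : rangeAll (rowChk row47 [6, 1, 2, 3, 2, 1, 6]) 1782 0 = true := by decide +kernel

theorem row47_ok : RowOK (47, row47) :=
  rowOK_of (v := [6, 1, 2, 3, 2, 1, 6]) (by decide +kernel) (by decide) (by decide +kernel)
    ((Below.zero _).step (b := 1782) row47_run rfl)

theorem row79_run : rangeAll (rowChk row79 [6, 4, 1, 2, 3, 2, 1, 6]) 1782 0 = true := by decide +kernel

theorem row79_ok : RowOK (79, row79) :=
  rowOK_of (v := [6, 4, 1, 2, 3, 2, 1, 6]) (by decide +kernel) (by decide) (by decide +kernel)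
    ((Below.zero _).step (b := 1782) row79_run rfl)

theorem row125_run : rangeAll (rowChk row125 [6, 3, 4, 1, 2, 3, 2, 1, 6]) 1782 0 = true := by decide +kernel

theorem row125_ok : RowOK (125, row125) :=
  rowOK_of (v := [6, 3, 4, 1, 2, 3, 2, 1, 6]) (by decide +kernel) (by decide) (by decide +kernel)
    ((Below.zero _).step (b := 1782) row125_run rfl)

theorem row271_run : rangeAll (rowChk row271 [6, 2, 3, 4, 1, 2, 3, 2, 0, 1, 6]) 1782 0 = true := by decide +kernel

theorem row271_ok : RowOK (271, row271) :=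
  rowOK_of (v := [6, 2, 3, 4, 1, 2, 3, 2, 0, 1, 6]) (by decide +kernel) (by decide) (by decide +kernel)
    ((Below.zero _).step (b := 1782) row271_run rfl)

theorem row995_run : rangeAll (rowChk row995 [5, 1, 2, 3, 2, 1, 5, 6, 1, 2, 3, 2, 1, 6]) 1782 0 = true := by decide +kernel

theorem row995_ok : RowOK (995, row995) :=
  rowOK_of (v := [5, 1, 2, 3, 2, 1, 5, 6, 1, 2, 3, 2, 1, 6]) (by decide +kernel) (by decide) (by decide +kernel)
    ((Below.zero _).step (b := 1782) row995_run rfl)

theorem row304_run : rangeAll (rowChk row304 [1, 6, 2, 3, 4, 1, 2, 3, 2, 1, 6]) 1782 0 = true := by decide +kernel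

theorem row304_ok : RowOK (304, row304) :=
  rowOK_of (v := [1, 6, 2, 3, 4, 1, 2, 3, 2, 1, 6]) (by decide +kernel) (by decide) (by decide +kernel)
    ((Below.zero _).step (b := 1782) row304_run rfl)

theorem row404_run : rangeAll (rowChk row404 [6, 3, 2, 3, 4, 1, 2, 3, 2, 0, 1, 6]) 1782 0 = true := by decide +kernel

theorem row404_ok : RowOK (404, row404) :=
  rowOK_of (v := [6, 3, 2, 3, 4, 1, 2, 3, 2, 0, 1, 6]) (by decide +kernel) (by decide) (by decide +kernel)
    ((Below.zero _).step (b := 1782) row404_run rfl)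

theorem row653_run : rangeAll (rowChk row653 [6, 3, 0, 1, 2, 3, 4, 1, 2, 3, 2, 1, 6]) 1782 0 = true := by decide +kernel

theorem row653_ok : RowOK (653, row653) :=
  rowOK_of (v := [6, 3, 0, 1, 2, 3, 4, 1, 2, 3, 2, 1, 6]) (by decide +kernel) (by decide) (by decide +kernel)
    ((Below.zero _).step (b := 1782) row653_run rfl)


end Cfsg.Agent.Lib.SuzRank3.Data
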