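import Cfsg.Agent.Lib.SuzRank3.Data.Rows

/-! Generated tables for the rank three graph on 1782 points. -/

set_option autoImplicit false
set_option maxRecDepth 20000

namespace Cfsg.Agent.Lib.SuzRank3.Data

open Cfsg.Agent.Lib.CosetTable

set_option Elab.async false

theorem row756_run : rangeAll (rowChk row756 [3, 1, 2, 3, 4, 3, 1, 2, 3, 1, 2, 0, 1, 6]) 1782 0 = true := by decide +kernel

theorem row756_ok : RowOK (756, row756) :=
  rowOK_of (v := [3, 1, 2, 3, 4, 3, 1, 2, 3, 1, 2, 0, 1, 6]) (by decide +kernel) (by decide) (by decide +kernel)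
    ((Below.zero _).step (b := 1782) row756_run rfl)

theorem row2_run : rangeAll (rowChk row2 [1, 6]) 1782 0 = true := by decide +kernel

theorem row2_ok : RowOK (2, row2) :=
  rowOK_of (v := [1, 6]) (by decide +kernel) (by decide) (by decide +kernel)
    ((Below.zero _).step (b := 1782) row2_run rfl)

theorem row24_run : rangeAll (rowChk row24 [4, 3, 2, 0, 1, 6]) 1782 0 = true := by decide +kernel

theorem row24_ok : RowOK (24, row24) :=
  rowOK_of (v := [4, 3, 2, 0, 1, 6]) (by decide +kernel) (by decide) (by decide +kernel)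
    ((Below.zero _).step (b := 1782) row24_run rfl)

theorem row89_run : rangeAll (rowChk row89 [5, 2, 3, 1, 2, 1, 0, 1, 6]) 1782 0 = true := by decide +kernel

theorem row89_ok : RowOK (89, row89) :=
  rowOK_of (v := [5, 2, 3, 1, 2, 1, 0, 1, 6]) (by decide +kernel) (by decide) (by decide +kernel)
    ((Below.zero _).step (b := 1782) row89_run rfl)

theorem row437_run : rangeAll (rowChk row437 [3, 2, 0, 1, 5, 0, 1, 2, 3, 2, 1, 6]) 1782 0 = true := by decide +kernel

theorem row437_ok : RowOK (437, row437) :=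
  rowOK_of (v := [3, 2, 0, 1, 5, 0, 1, 2, 3, 2, 1, 6]) (by decide +kernel) (by decide) (by decide +kernel)
    ((Below.zero _).step (b := 1782) row437_run rfl)

theorem row1314_run : rangeAll (rowChk row1314 [2, 1, 6, 5, 3, 1, 2, 3, 4, 1, 2, 3, 2, 1, 6]) 1782 0 = true := by decide +kernel

theorem row1314_ok : RowOK (1314, row1314) :=
  rowOK_of (v := [2, 1, 6, 5, 3, 1, 2, 3, 4, 1, 2, 3, 2, 1, 6]) (by decide +kernel) (by decide) (by decide +kernel)
    ((Below.zero _).step (b := 1782) row1314_run rfl)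

theorem row537_run : rangeAll (rowChk row537 [0, 1, 5, 3, 4, 1, 2, 3, 1, 2, 0, 1, 6]) 1782 0 = true := by decide +kernel

theorem row537_ok : RowOK (537, row537) :=
  rowOK_of (v := [0, 1, 5, 3, 4, 1, 2, 3, 1, 2, 0, 1, 6]) (by decide +kernel) (by decide) (by decide +kernel)
    ((Below.zero _).step (b := 1782) row537_run rfl)

theorem row463_run : rangeAll (rowChk row463 [2, 1, 6, 5, 3, 4, 1, 2, 3, 2, 1, 6]) 1782 0 = true := by decide +kernel

theorem row463_ok : RowOK (463, row463) :=
  rowOK_of (v := [2, 1, 6, 5, 3, 4, 1, 2, 3, 2, 1, 6]) (by decide +kernel) (by decide) (by decide +kernel)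
    ((Below.zero _).step (b := 1782) row463_run rfl)

theorem row469_run : rangeAll (rowChk row469 [6, 2, 1, 5, 6, 4, 1, 2, 3, 2, 1, 6]) 1782 0 = true := by decide +kernel

theorem row469_ok : RowOK (469, row469) :=
  rowOK_of (v := [6, 2, 1, 5, 6, 4, 1, 2, 3, 2, 1, 6]) (by decide +kernel) (by decide) (by decide +kernel)
    ((Below.zero _).step (b := 1782) row469_run rfl)


end Cfsg.Agent.Lib.SuzRank3.Data
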