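import Cfsg.Agent.Lib.SuzRank3.Data.P5
import Cfsg.Agent.Lib.SuzRank3.Data.Cls

/-! Generated checks. -/

set_option autoImplicit false
set_option maxRecDepth 20000
set_option Elab.async false

namespace Cfsg.Agent.Lib.SuzRank3.Data

open Cfsg.Agent.Lib.CosetTable

theorem link_run : rangeAll (linkOK aTab) 416 0 = true := by decide +kernel

theorem link_ok : Linked cd.tbl := (Below.zero _).step (b := 416) link_run rfl

theorem zmask_run : rangeAll (fun i => cond (bitB (cd.msk 0) i) (Nat.beq (cd.tbl.walk [3, 4] i) i)
    (! Nat.beq (cd.tbl.walk [3, 4] i) i)) 416 0 = true := by decide +kernel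

theorem perms_run1 : rangeAll (pd.puChk cd) 25 0 = true := by decide +kernel

theorem bad_run1 : rangeAll (pd.badChk cd) 520 0 = true := by decide +kernel

theorem bad_run2 : rangeAll (pd.badChk cd) 520 520 = true := by decide +kernel

theorem bad_run3 : rangeAll (pd.badChk cd) 520 1040 = true := by decide +kernel

theorem bad_run4 : rangeAll (pd.badChk cd) 520 1560 = true := by decide +kernel

theorem pts_run : rangeAll pd.ptChk 416 0 = true := by decide +kernel

theorem bad_ok : Below (pd.badChk cd) 2080 :=
  ((((Below.zero _).step (b := 520) bad_run1 rfl).step (b := 1040) bad_run2 rfl).step (b := 1560)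
    bad_run3 rfl).step (b := 2080) bad_run4 rfl

end Cfsg.Agent.Lib.SuzRank3.Data
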