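import Cfsg.Agent.Lib.SuzRank3.Data.Rows

/-! Generated tables for the rank three graph on 1782 points. -/

set_option autoImplicit false
set_option maxRecDepth 20000

namespace Cfsg.Agent.Lib.SuzRank3.Data

open Cfsg.Agent.Lib.CosetTable

set_option Elab.async false

theorem row113_run : rangeAll (rowChk row113 [3, 4, 1, 2, 3, 2, 0, 1, 6]) 1782 0 = true := by decide +kernel

theorem row113_ok : RowOK (113, row113) :=
  rowOK_of (v := [3, 4, 1, 2, 3, 2, 0, 1, 6]) (by decide +kernel) (by decide) (by decide +kernel)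
    ((Below.zero _).step (b := 1782) row113_run rfl)

theorem row1369_run : rangeAll (rowChk row1369 [2, 0, 1, 5, 6, 1, 5, 2, 3, 4, 2, 3, 2, 1, 6]) 1782 0 = true := by decide +kernel

theorem row1369_ok : RowOK (1369, row1369) :=
  rowOK_of (v := [2, 0, 1, 5, 6, 1, 5, 2, 3, 4, 2, 3, 2, 1, 6]) (by decide +kernel) (by decide) (by decide +kernel)
    ((Below.zero _).step (b := 1782) row1369_run rfl)

theorem row1442_run : rangeAll (rowChk row1442 [0, 1, 5, 3, 2, 3, 4, 3, 1, 2, 3, 1, 2, 0, 1, 6]) 1782 0 = true := by decide +kernel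

theorem row1442_ok : RowOK (1442, row1442) :=
  rowOK_of (v := [0, 1, 5, 3, 2, 3, 4, 3, 1, 2, 3, 1, 2, 0, 1, 6]) (by decide +kernel) (by decide) (by decide +kernel)
    ((Below.zero _).step (b := 1782) row1442_run rfl)

theorem row1610_run : rangeAll (rowChk row1610 [5, 2, 3, 0, 1, 0, 1, 2, 3, 4, 1, 2, 3, 2, 1, 6]) 1782 0 = true := by decide +kernel

theorem row1610_ok : RowOK (1610, row1610) :=
  rowOK_of (v := [5, 2, 3, 0, 1, 0, 1, 2, 3, 4, 1, 2, 3, 2, 1, 6]) (by decide +kernel) (by decide) (by decide +kernel)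
    ((Below.zero _).step (b := 1782) row1610_run rfl)

theorem row1350_run : rangeAll (rowChk row1350 [4, 3, 2, 1, 5, 0, 1, 2, 3, 4, 2, 3, 2, 1, 6]) 1782 0 = true := by decide +kernel

theorem row1350_ok : RowOK (1350, row1350) :=
  rowOK_of (v := [4, 3, 2, 1, 5, 0, 1, 2, 3, 4, 2, 3, 2, 1, 6]) (by decide +kernel) (by decide) (by decide +kernel)
    ((Below.zero _).step (b := 1782) row1350_run rfl)

theorem row1772_run : rangeAll (rowChk row1772 [6, 0, 1, 5, 2, 1, 6, 5, 1, 2, 3, 4, 2, 3, 2, 1, 6]) 1782 0 = true := by decide +kernel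

theorem row1772_ok : RowOK (1772, row1772) :=
  rowOK_of (v := [6, 0, 1, 5, 2, 1, 6, 5, 1, 2, 3, 4, 2, 3, 2, 1, 6]) (by decide +kernel) (by decide) (by decide +kernel)
    ((Below.zero _).step (b := 1782) row1772_run rfl)

theorem row14_run : rangeAll (rowChk row14 [4, 3, 2, 1, 6]) 1782 0 = true := by decide +kernel

theorem row14_ok : RowOK (14, row14) :=
  rowOK_of (v := [4, 3, 2, 1, 6]) (by decide +kernel) (by decide) (by decide +kernel)
    ((Below.zero _).step (b := 1782) row14_run rfl)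


end Cfsg.Agent.Lib.SuzRank3.Data
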